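import Mathlib.CategoryTheory.Subobject.ArtinianObject
import Mathlib.CategoryTheory.Limits.Preserves.Finite
import Mathlib.CategoryTheory.Limits.Preserves.Shapes.BinaryProducts
import Mathlib.CategoryTheory.Limits.Preserves.Shapes.Equalizers
import Mathlib.CategoryTheory.Filtered.Basic
import Mathlib.CategoryTheory.Elements
import Mathlib.CategoryTheory.Yoneda
import Mathlib.CategoryTheory.Limits.FunctorCategory.Basic
import Mathlib.CategoryTheory.Limits.Types.Colimits
import Mathlib.CategoryTheory.Limits.Types.Filtered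
import Mathlib.CategoryTheory.Limits.Types.Products
import Mathlib.CategoryTheory.Limits.Types.Equalizers

set_option autoImplicit false

open CategoryTheory CategoryTheory.Limits Opposite

namespace Groth.Agent.StrictPro

universe u

variable {C : Type u} [SmallCategory C] (F : C ⥤ Type u)

/-- an element not coming from a proper subobject -/
def Minimal' : ObjectProperty F.Elements := fun x =>
  ∀ (Z : C) (m : Z ⟶ x.1) [Mono m] (z : F.obj Z), F.map m z = x.2 → IsIso m

variable {F}
variable [HasFiniteLimits C] [PreservesFiniteLimits F]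

lemma minimal_unique {x : F.Elements} (hx : Minimal' F x) {Y : C} (f g : x.1 ⟶ Y)
    (h : F.map f x.2 = F.map g x.2) : f = g := by
  have t : IsLimit (Fork.ofι (F.map (equalizer.ι f g)) _) :=
    isLimitForkMapOfIsLimit F (equalizer.condition f g) (equalizerIsEqualizer f g)
  obtain ⟨z, hz, -⟩ := Types.unique_of_type_equalizer _ _ t x.2 h
  haveI := hx _ (equalizer.ι f g) z hz
  rw [← cancel_epi (equalizer.ι f g)]
  exact equalizer.condition f g

lemma exists_minimal (hart : ∀ X : C, IsArtinianObject X) (X : C) (x : F.obj X) :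
    ∃ (y : F.Elements) (m : y.1 ⟶ X), Minimal' F y ∧ F.map m y.2 = x := by
  haveI := hart X
  obtain ⟨P, ⟨a, ha⟩, hmin⟩ := (wellFounded_lt (α := Subobject X)).has_min
    {P | ∃ a : F.obj (P : C), F.map P.arrow a = x}
    ⟨Subobject.mk (𝟙 X), F.map (Subobject.underlyingIso (𝟙 X)).inv x, by
      rw [← CategoryTheory.comp_apply, ← F.map_comp, Subobject.underlyingIso_arrow, F.map_id]
      rfl⟩
  refine ⟨⟨(P : C), a⟩, P.arrow, ?_, ha⟩
  intro Z m _ z hz
  change F.map m z = a at hz
  have hle : Subobject.mk (m ≫ P.arrow) ≤ P := Subobject.mk_le_of_comm m rfl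
  have hmem : ∃ b : F.obj ((Subobject.mk (m ≫ P.arrow) : Subobject X) : C),
      F.map (Subobject.mk (m ≫ P.arrow)).arrow b = x := by
    refine ⟨F.map (Subobject.underlyingIso (m ≫ P.arrow)).inv z, ?_⟩
    rw [← CategoryTheory.comp_apply, ← F.map_comp, Subobject.underlyingIso_arrow, F.map_comp,
      CategoryTheory.comp_apply, hz, ha]
  have heq : Subobject.mk (m ≫ P.arrow) = P := by
    by_contra hne
    exact hmin _ hmem (lt_of_le_of_ne hle hne)
  have hm : m = (Subobject.isoOfMkEq (m ≫ P.arrow) P heq).hom := by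
    rw [← cancel_mono P.arrow]
    simp [Subobject.isoOfMkEq]
  rw [hm]
  infer_instance

lemma exists_pair (X Y : C) (x : F.obj X) (y : F.obj Y) :
    ∃ z : F.obj (X ⨯ Y), F.map prod.fst z = x ∧ F.map prod.snd z = y := by
  let e := PreservesLimitPair.iso F X Y ≪≫ Types.binaryProductIso (F.obj X) (F.obj Y)
  refine ⟨e.inv (x, y), ?_, ?_⟩
  · have h : F.map prod.fst = e.hom ≫ ↾(Prod.fst : F.obj X × F.obj Y → F.obj X) := by
      simp [e, Types.binaryProductIso]
      exact (prodComparison_fst F X Y).symm
    rw [h, CategoryTheory.comp_apply, ← CategoryTheory.comp_apply e.inv e.hom, e.inv_hom_id]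
    rfl
  · have h : F.map prod.snd = e.hom ≫ ↾(Prod.snd : F.obj X × F.obj Y → F.obj Y) := by
      simp [e, Types.binaryProductIso]
      exact (prodComparison_snd F X Y).symm
    rw [h, CategoryTheory.comp_apply, ← CategoryTheory.comp_apply e.inv e.hom, e.inv_hom_id]
    rfl

theorem main (hart : ∀ X : C, IsArtinianObject X) :
    ∃ (J : Type u) (_ : SmallCategory J) (_ : IsCofiltered J) (D : J ⥤ C),
      (∀ ⦃j j' : J⦄ (a : j ⟶ j'), Epi (D.map a)) ∧ Nonempty (F ≅ colimit (D.op ⋙ coyoneda)) := by
  let J := (Minimal' F).FullSubcategory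
  let D : J ⥤ C := (Minimal' F).ι ⋙ CategoryOfElements.π F
  have cone : ∀ j j' : J, ∃ (k : J) (_ : k ⟶ j) (_ : k ⟶ j'), True := by
    intro j j'
    obtain ⟨z, h1, h2⟩ := exists_pair (F := F) j.obj.1 j'.obj.1 j.obj.2 j'.obj.2
    obtain ⟨y, m, hy, hm⟩ := exists_minimal hart _ z
    refine ⟨⟨y, hy⟩, ObjectProperty.homMk (CategoryOfElements.homMk _ _ (m ≫ prod.fst) ?_),
      ObjectProperty.homMk (CategoryOfElements.homMk _ _ (m ≫ prod.snd) ?_), trivial⟩
    · show F.map (m ≫ prod.fst) y.2 = j.obj.2
      rw [F.map_comp, CategoryTheory.comp_apply, hm, h1]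
    · show F.map (m ≫ prod.snd) y.2 = j'.obj.2
      rw [F.map_comp, CategoryTheory.comp_apply, hm, h2]
  have thin : ∀ (j : J) (Y : C) (f g : D.obj j ⟶ Y), F.map f j.obj.2 = F.map g j.obj.2 → f = g :=
    fun j Y f g h => minimal_unique j.property f g h
  haveI : IsCofilteredOrEmpty J :=
    { cone_objs := cone
      cone_maps := fun j j' f g => ⟨j, 𝟙 j, by
        rw [Category.id_comp, Category.id_comp]
        apply InducedCategory.hom_ext
        apply CategoryOfElements.ext
        exact thin j _ _ _ (f.hom.2.trans g.hom.2.symm)⟩ }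
  haveI : Nonempty J := by
    have ht : IsTerminal (F.obj (⊤_ C)) := IsTerminal.isTerminalObj F _ terminalIsTerminal
    obtain ⟨y, -, hy, -⟩ := exists_minimal hart (F := F) (⊤_ C) (Types.isTerminalEquivUnique _ ht).default
    exact ⟨⟨y, hy⟩⟩
  haveI : IsCofiltered J := ⟨⟩
  refine ⟨J, inferInstance, inferInstance, D, fun j j' a => ⟨fun f g h => ?_⟩, ?_⟩
  · refine thin j' _ f g ?_
    have h1 : F.map (D.map a) j.obj.2 = j'.obj.2 := a.hom.2
    rw [← h1, ← CategoryTheory.comp_apply, ← CategoryTheory.comp_apply, ← F.map_comp, ← F.map_comp, h]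
  · let c : Cocone (D.op ⋙ coyoneda) :=
      { pt := F
        ι :=
          { app := fun j =>
              { app := fun X => ↾fun f => F.map f j.unop.obj.2
                naturality := fun X Y k => by
                  ext f
                  show F.map (f ≫ k) j.unop.obj.2 = F.map k (F.map f j.unop.obj.2)
                  rw [F.map_comp]
                  rfl }
            naturality := fun j j' a => by
              ext X (f : D.obj j.unop ⟶ X)
              show F.map (D.map a.unop ≫ f) j'.unop.obj.2 = F.map f j.unop.obj.2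
              rw [F.map_comp, CategoryTheory.comp_apply]
              exact congrArg (F.map f) a.unop.hom.2 } }
    have hc : IsColimit c := by
      refine evaluationJointlyReflectsColimits _ fun X => ?_
      refine Types.FilteredColimit.isColimitOf _ _ ?_ ?_
      · intro (x : F.obj X)
        obtain ⟨y, m, hy, hm⟩ := exists_minimal hart X x
        exact ⟨op ⟨y, hy⟩, m, hm.symm⟩
      · intro i i' (f : D.obj i.unop ⟶ X) (g : D.obj i'.unop ⟶ X)
          (h : F.map f i.unop.obj.2 = F.map g i'.unop.obj.2)
        obtain ⟨k, a, b, -⟩ := cone i.unop i'.unop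
        refine ⟨op k, a.op, b.op, ?_⟩
        show D.map a ≫ f = D.map b ≫ g
        refine thin k _ _ _ ?_
        rw [F.map_comp, F.map_comp, CategoryTheory.comp_apply, CategoryTheory.comp_apply]
        exact (congrArg (F.map f) a.hom.2).trans (h.trans (congrArg (F.map g) b.hom.2).symm)
    exact ⟨hc.coconePointUniqueUpToIso (colimit.isColimit _)⟩

end Groth.Agent.StrictPro
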